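import Groth.Agent.AModX.Res
import Groth.Prelude.Def_ExtPow2

/-!
# Exterior powers are unique up to isomorphism
-/

set_option autoImplicit false
set_option maxHeartbeats 1000000
set_option linter.style.haveILetI false
set_option backward.isDefEq.respectTransparency false
set_option backward.isDefEq.respectTransparency.types false

universe u

open CategoryTheory AlgebraicGeometry TopologicalSpace Opposite
open Groth.Agent.AModX

noncomputable section

namespace Groth.Agent.ExtPowPull

variable {X : Scheme.{u}} {M L L' : X.Modules} {m : ℕ}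

/-- Compatible linear equivalences on affine opens glue to an isomorphism. -/
theorem nonempty_iso_of_affine (ψ : ∀ U : X.affineOpens, Γ(L, U.1) ≃+ Γ(L', U.1))
    (hsmul : ∀ (U : X.affineOpens) (r : Γ(X, U.1)) (x : Γ(L, U.1)), ψ U (r • x) = r • ψ U x)
    (hres : ∀ (U V : X.affineOpens) (h : V.1 ≤ U.1) (x : Γ(L, U.1)),
      res L' h (ψ U x) = ψ V (res L h x)) : Nonempty (L ≅ L') := by
  let ι : X.affineOpens → X.Opens := Subtype.val
  have hι : Opens.IsBasis (Set.range ι) := by
    rw [show Set.range ι = X.affineOpens from Subtype.range_coe]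
    exact X.isBasis_affineOpens
  let G : TopCat.Sheaf Ab.{u} X.toTopCat := ⟨L'.presheaf, L'.isSheaf⟩
  let α : (inducedFunctor ι).op ⋙ L.presheaf ⟶ (inducedFunctor ι).op ⋙ G.1 :=
    { app := fun U => AddCommGrpCat.ofHom (ψ U.unop).toAddMonoidHom
      naturality := fun U V g => by
        ext x
        exact (hres U.unop V.unop ((inducedFunctor ι).map g.unop).le x).symm }
  let φ : L.presheaf ⟶ L'.presheaf := TopCat.Sheaf.restrictHomEquivHom L.presheaf G hι α
  have hφ : ∀ (U : X.affineOpens) (x : Γ(L, U.1)), φ.app (op U.1) x = ψ U x := fun U x =>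
    congrArg (fun q => q x) (TopCat.Sheaf.extend_hom_app L.presheaf G hι α U)
  have hnat : ∀ {V W : X.Opens} (i : W ≤ V) (x : Γ(L, V)),
      res L' i (φ.app (op V) x) = φ.app (op W) (res L i x) := fun i x =>
    (ConcreteCategory.congr_hom (φ.naturality (homOfLE i).op) x).symm
  let Φ : L ⟶ L' := ⟨PresheafOfModules.homMk φ fun V r x => by
    refine eq_of_locally (M := L') _ _ fun y hy => ?_
    obtain ⟨_, ⟨W, hW, rfl⟩, hyW, hWV⟩ := X.isBasis_affineOpens.exists_subset_of_mem_open hy (unop V).2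
    refine ⟨W, hWV, hyW, ?_⟩
    refine (hnat hWV _).trans ?_
    erw [res_smul (M := L) hWV r x, hφ ⟨W, hW⟩, hsmul ⟨W, hW⟩, res_smul (M := L') hWV]
    rw [← hφ ⟨W, hW⟩, ← hnat hWV]
    rfl⟩
  have hiso : IsIso φ := by
    let F : TopCat.Sheaf Ab.{u} X.toTopCat := ⟨L.presheaf, L.isSheaf⟩
    let φ' : F ⟶ G := ⟨φ⟩
    have : IsIso φ' := TopCat.Sheaf.isIso_iff_isIso_basis hι fun U => by
      refine (ConcreteCategory.isIso_iff_bijective _).2 ?_
      exact (congrArg Function.Bijective (funext fun x => hφ U x)).mpr (ψ U).bijective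
    exact inferInstanceAs (IsIso ((TopCat.Sheaf.forget _ _).map φ'))
  haveI : IsIso Φ := by
    haveI : IsIso ((Scheme.Modules.toPresheaf X).map Φ) := hiso
    exact isIso_of_reflects_iso Φ (Scheme.Modules.toPresheaf X)
  exact ⟨asIso Φ⟩

/-- Exterior powers are unique up to isomorphism. -/
theorem nonempty_iso (hL : ExtPow.IsExtPow m M L) (hL' : ExtPow.IsExtPow m M L') : Nonempty (L ≅ L') := by
  obtain ⟨φ, hφ⟩ := hL
  obtain ⟨φ', hφ'⟩ := hL'
  let ψ : ∀ U : X.affineOpens, Γ(L, U.1) ≃+ Γ(L', U.1) := fun U =>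
    (φ U).toAddEquiv.trans (φ' U).symm.toAddEquiv
  have hψ : ∀ U x, ψ U x = (φ' U).symm (φ U x) := fun _ _ => rfl
  have hsmul : ∀ (U : X.affineOpens) (r : Γ(X, U.1)) (x : Γ(L, U.1)), ψ U (r • x) = r • ψ U x :=
    fun U r x => (congrArg (φ' U).symm ((φ U).map_smul r x)).trans ((φ' U).symm.map_smul r _)
  refine nonempty_iso_of_affine ψ hsmul fun U V h x => ?_
  obtain ⟨y, rfl⟩ := (φ U).symm.surjective x
  have hy : y ∈ Submodule.span Γ(X, U.1) (Set.range (exteriorPower.ιMulti Γ(X, U.1) m (M := M.val.obj (op U.1)))) := by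
    rw [exteriorPower.ιMulti_span]
    exact Submodule.mem_top
  induction hy using Submodule.span_induction with
  | mem y hy =>
    obtain ⟨e, rfl⟩ := hy
    rw [hψ, hψ, (φ U).apply_symm_apply]
    refine (hφ' U V h e).trans ?_
    refine congrArg (φ' V).symm ?_
    exact (((φ V).symm_apply_eq).1 (hφ U V h e).symm)
  | zero => simp only [map_zero]
  | add a b _ _ ha hb => simp only [map_add, ha, hb]
  | smul r a _ ha =>
    rw [(φ U).symm.map_smul, hsmul]
    erw [res_smul (M := L') h, res_smul (M := L) h, hsmul V, ha]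

end Groth.Agent.ExtPowPull
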